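import Cfsg.Agent.Lib.Hall.MinimalNormal
import Cfsg.Agent.S0205

/-!
Linear groups all of whose vector stabilisers are maximal subgroups: the characteristic is two,
a minimal normal subgroup is non-abelian and has trivial centraliser.
-/

set_option autoImplicit false

namespace Cfsg.Agent.Perm.ExtremelyPrim

open MulAction
open scoped Pointwise

/-- An insoluble group `H` acts faithfully and irreducibly on a nontrivial elementary abelian
`p`-group `V`, and the stabiliser of each non-identity vector is a maximal subgroup. -/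
structure Setting (H V : Type*) [Group H] [CommGroup V] [MulDistribMulAction H V] (p : ℕ) :
    Prop where
  nontriv : ∃ v : V, v ≠ 1
  prime : p.Prime
  expo : ∀ v : V, v ^ p = 1
  faithful : ∀ h : H, (∀ v : V, h • v = v) → h = 1
  irr : ∀ W : Subgroup V, (∀ h : H, ∀ w ∈ W, h • w ∈ W) → W = ⊥ ∨ W = ⊤
  maxStab : ∀ v : V, v ≠ 1 → IsCoatom (stabilizer H v)
  notSolvable : ¬ Group.IsSolvable H

section Fix

variable {H V : Type*} [Group H] [CommGroup V] [MulDistribMulAction H V]

/-- The vectors fixed by a subgroup. -/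
def fixSub (S : Subgroup H) : Subgroup V where
  carrier := {v | ∀ s ∈ S, s • v = v}
  one_mem' := fun s _ => smul_one s
  mul_mem' := fun {a b} ha hb s hs => by rw [smul_mul', ha s hs, hb s hs]
  inv_mem' := fun {a} ha s hs => by rw [smul_inv', ha s hs]

theorem mem_fixSub {S : Subgroup H} {v : V} : v ∈ fixSub S ↔ ∀ s ∈ S, s • v = v := Iff.rfl

theorem smul_mem_fixSub {S : Subgroup H} {h : H} (hn : h ∈ Subgroup.normalizer (S : Set H))
    {v : V} (hv : v ∈ fixSub S) : h • v ∈ fixSub S := by
  intro s hs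
  have h1 : h⁻¹ * s * h ∈ S := by
    have := (Subgroup.mem_normalizer_iff.1 (inv_mem hn) s).1 hs
    simpa using this
  have h2 := hv _ h1
  calc s • h • v = h • (h⁻¹ * s * h) • v := by rw [smul_smul, smul_smul]; group
    _ = h • v := by rw [h2]

theorem exists_involution [Finite H] {S : Subgroup H} (hS : ¬ Group.IsSolvable S) :
    ∃ t ∈ S, t ≠ 1 ∧ t * t = 1 := by
  have h2 : 2 ∣ Nat.card S := by
    by_contra h
    exact hS (Cfsg.Agent.S0205.result (Nat.odd_iff.2 (Nat.two_dvd_ne_zero.1 h)))
  obtain ⟨t, ht⟩ := exists_prime_orderOf_dvd_card' 2 h2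
  refine ⟨t, t.2, fun h => ?_, ?_⟩
  · have h' : t = 1 := Subtype.ext h
    rw [h', orderOf_one] at ht
    omega
  · have := pow_orderOf_eq_one t
    rw [ht, pow_two] at this
    exact congrArg Subtype.val this

end Fix

namespace Setting

variable {H V : Type*} [Group H] [Finite H] [CommGroup V] [Finite V] [MulDistribMulAction H V]
  {p : ℕ}

theorem stab_not_normal (S : Setting H V p) {v : V} (hv : v ≠ 1) :
    ¬ (stabilizer H v).Normal := by
  intro hn
  have hW : fixSub (V := V) (stabilizer H v) = ⊤ := by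
    refine (S.irr _ fun h w hw => smul_mem_fixSub ?_ hw).resolve_left fun h => hv ?_
    · rw [Subgroup.normalizer_eq_top]; trivial
    · have : v ∈ fixSub (V := V) (stabilizer H v) := fun s hs => hs
      rwa [h, Subgroup.mem_bot] at this
  have hbot : stabilizer H v = ⊥ := (Subgroup.eq_bot_iff_forall _).2 fun s hs =>
    S.faithful s fun w => (hW ▸ Subgroup.mem_top w : w ∈ fixSub (stabilizer H v)) s hs
  have hc := S.maxStab v hv
  rw [hbot] at hc
  apply S.notSolvable
  by_cases htriv : ∀ x : H, x = 1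
  · exact Group.isSolvable_of_comm fun a b => by rw [htriv a, htriv b]
  · push Not at htriv
    obtain ⟨x, hx⟩ := htriv
    have hz : Subgroup.zpowers x = ⊤ := hc.2 _ (bot_lt_iff_ne_bot.2 (Subgroup.zpowers_ne_bot.2 hx))
    refine Group.isSolvable_of_comm fun a b => ?_
    obtain ⟨i, rfl⟩ := Subgroup.mem_zpowers_iff.1 (hz ▸ Subgroup.mem_top a)
    obtain ⟨j, rfl⟩ := Subgroup.mem_zpowers_iff.1 (hz ▸ Subgroup.mem_top b)
    exact Commute.zpow_zpow_self x i j

theorem normalizer_stab (S : Setting H V p) {v : V} (hv : v ≠ 1) :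
    Subgroup.normalizer ((stabilizer H v : Subgroup H) : Set H) = stabilizer H v := by
  rcases eq_or_lt_of_le (Subgroup.le_normalizer (H := stabilizer H v)) with h | h
  · exact h.symm
  · exact absurd (Subgroup.normalizer_eq_top_iff.1 ((S.maxStab v hv).2 _ h))
      (S.stab_not_normal hv)

theorem eq_two (S : Setting H V p) : p = 2 := by
  have hns : ¬ Group.IsSolvable (⊤ : Subgroup H) := fun h =>
    S.notSolvable (solvable_of_surjective (f := (Subgroup.topEquiv (G := H)).toMonoidHom)
      (Subgroup.topEquiv (G := H)).surjective)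
  obtain ⟨t, -, ht1, htt⟩ := exists_involution hns
  obtain ⟨x, hx⟩ : ∃ x : V, t • x ≠ x := by
    by_contra h
    push Not at h
    exact ht1 (S.faithful t h)
  set v := t • x * x⁻¹ with hvdef
  have hv : v ≠ 1 := fun h => hx (mul_inv_eq_one.1 h)
  have htv : t • v = v⁻¹ := by
    rw [hvdef, smul_mul', smul_inv', smul_smul, htt, one_smul, mul_inv, inv_inv, mul_comm]
  have htn : t ∈ Subgroup.normalizer ((stabilizer H v : Subgroup H) : Set H) := by
    have key : ∀ s ∈ stabilizer H v, t * s * t⁻¹ ∈ stabilizer H v := by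
      intro s hs
      rw [mem_stabilizer_iff] at hs ⊢
      have h1 : t⁻¹ • v = v⁻¹ := by rw [inv_eq_of_mul_eq_one_left htt, htv]
      rw [mul_smul, mul_smul, h1, smul_inv', hs, smul_inv', htv, inv_inv]
    rw [Subgroup.mem_normalizer_iff]
    intro s
    refine ⟨key s, fun h => ?_⟩
    have h2 := key _ h
    have hti : t⁻¹ = t := inv_eq_of_mul_eq_one_left htt
    rw [hti] at h2
    have : t * (t * s * t) * t = s := by
      calc t * (t * s * t) * t = (t * t) * s * (t * t) := by group
        _ = s := by rw [htt, one_mul, mul_one]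
    rwa [this] at h2
  rw [S.normalizer_stab hv, mem_stabilizer_iff, htv] at htn
  have h2 : v ^ 2 = 1 := by
    rw [pow_two]
    nth_rewrite 1 [← htn]
    exact inv_mul_cancel v
  have h3 : orderOf v = p := by
    haveI := Fact.mk S.prime
    exact orderOf_eq_prime (S.expo v) hv
  have := orderOf_dvd_of_pow_eq_one h2
  rw [h3] at this
  exact (Nat.prime_dvd_prime_iff_eq S.prime Nat.prime_two).1 this

theorem mul_self (S : Setting H V p) (v : V) : v * v = 1 := by
  have := S.expo v
  rwa [S.eq_two, pow_two] at this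

theorem inv_self (S : Setting H V p) (v : V) : v⁻¹ = v := inv_eq_of_mul_eq_one_left (S.mul_self v)

theorem fixSub_normal (S : Setting H V p) {M : Subgroup H} (hMn : M.Normal) (hM : M ≠ ⊥) :
    fixSub (V := V) M = ⊥ := by
  refine (S.irr _ fun h w hw => smul_mem_fixSub ?_ hw).resolve_right fun htop => hM ?_
  · rw [Subgroup.normalizer_eq_top]; trivial
  · exact (Subgroup.eq_bot_iff_forall _).2 fun m hm =>
      S.faithful m fun w => (htop ▸ Subgroup.mem_top w : w ∈ fixSub M) m hm

theorem not_le_stab (S : Setting H V p) {M : Subgroup H} (hMn : M.Normal) (hM : M ≠ ⊥) {v : V}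
    (hv : v ≠ 1) : ¬ M ≤ stabilizer H v := fun h => hv <| by
  have : v ∈ fixSub (V := V) M := fun m hm => h hm
  rwa [S.fixSub_normal hMn hM, Subgroup.mem_bot] at this

theorem sup_stab (S : Setting H V p) {M : Subgroup H} (hMn : M.Normal) (hM : M ≠ ⊥) {v : V}
    (hv : v ≠ 1) : M ⊔ stabilizer H v = ⊤ := by
  refine (S.maxStab v hv).2 _ (lt_of_le_of_ne le_sup_right fun h => ?_)
  exact S.not_le_stab hMn hM hv (h ▸ le_sup_left)

theorem exists_fixed (S : Setting H V p) {t : H} (htt : t * t = 1) {W : Subgroup V}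
    (hW : ∀ w ∈ W, t • w ∈ W) (hne : ∃ w ∈ W, w ≠ 1) : ∃ v ∈ W, v ≠ 1 ∧ t • v = v := by
  by_cases h : ∀ w ∈ W, t • w = w
  · obtain ⟨w, hw, h1⟩ := hne
    exact ⟨w, hw, h1, h w hw⟩
  · push Not at h
    obtain ⟨x, hx, hne⟩ := h
    refine ⟨x * t • x, W.mul_mem hx (hW x hx), fun h1 => hne ?_, ?_⟩
    · rw [← inv_eq_of_mul_eq_one_right h1, S.inv_self]
    · rw [smul_mul', smul_smul, htt, one_smul, mul_comm]

theorem exists_fixed_top (S : Setting H V p) {t : H} (htt : t * t = 1) :
    ∃ v : V, v ≠ 1 ∧ t • v = v := by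
  obtain ⟨w, hw⟩ := S.nontriv
  obtain ⟨v, -, hv⟩ := S.exists_fixed htt (W := ⊤) (fun w _ => Subgroup.mem_top _)
    ⟨w, Subgroup.mem_top _, hw⟩
  exact ⟨v, hv⟩

/-- A minimal normal subgroup is not commutative. -/
theorem not_commutative (S : Setting H V p) {M : Subgroup H} [M.Normal] (hM : M ≠ ⊥)
    (hmin : ∀ K : Subgroup H, K.Normal → K ≤ M → K = ⊥ ∨ K = M) : ¬ IsMulCommutative M := by
  intro hc
  have hcomm : ∀ x ∈ M, ∀ y ∈ M, x * y = y * x := fun x hx y hy =>
    congrArg Subtype.val (hc.is_comm.comm ⟨x, hx⟩ ⟨y, hy⟩)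
  have hsemi : ∀ m ∈ M, ∀ v : V, v ≠ 1 → m • v = v → m = 1 := by
    intro m hm v hv hmv
    have hn : (M ⊓ stabilizer H v).Normal := by
      rw [← Subgroup.normalizer_eq_top_iff, ← top_le_iff,
        ← S.sup_stab ‹M.Normal› hM hv, sup_le_iff]
      constructor
      · intro x hx
        rw [Subgroup.mem_normalizer_iff]
        intro y
        constructor
        · intro hy
          rwa [hcomm x hx y hy.1, mul_inv_cancel_right]
        · intro hy
          have h1 : x * y * x⁻¹ = y := by
            have h2 : y ∈ M := by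
              have := M.mul_mem (M.mul_mem (M.inv_mem hx) hy.1) hx
              simpa [mul_assoc] using this
            rw [hcomm x hx y h2, mul_inv_cancel_right]
          rwa [h1] at hy
      · intro s hs
        rw [Subgroup.mem_normalizer_iff]
        intro y
        have h1 : y ∈ M ↔ s * y * s⁻¹ ∈ M :=
          ⟨fun h => ‹M.Normal›.conj_mem y h s, fun h => by
            simpa [mul_assoc] using ‹M.Normal›.conj_mem _ h s⁻¹⟩
        have h2 : y ∈ stabilizer H v ↔ s * y * s⁻¹ ∈ stabilizer H v :=
          Subgroup.mem_normalizer_iff.1 (Subgroup.le_normalizer hs) y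
        exact and_congr h1 h2
    have h0 := (hmin _ hn inf_le_left).resolve_right fun h =>
      S.not_le_stab ‹M.Normal› hM hv (h ▸ inf_le_right)
    exact Subgroup.mem_bot.1 (h0 ▸ ⟨hm, hmv⟩)
  have hodd : ¬ 2 ∣ Nat.card M := by
    intro h2
    obtain ⟨t, ht⟩ := exists_prime_orderOf_dvd_card' 2 h2
    have htt : (t : H) * t = 1 := by
      have := pow_orderOf_eq_one t
      rw [ht, pow_two] at this
      exact congrArg Subtype.val this
    obtain ⟨v, hv, htv⟩ := S.exists_fixed_top (V := V) htt
    have : t = 1 := Subtype.ext (hsemi t t.2 v hv htv)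
    rw [this, orderOf_one] at ht
    omega
  have hcard : Nat.card M ≠ 1 := fun h => hM (Subgroup.eq_bot_of_card_eq M h)
  obtain ⟨r, hr, hrd⟩ := Nat.exists_prime_and_dvd hcard
  haveI := Fact.mk hr
  have hr2 : r ≠ 2 := fun h => hodd (h ▸ hrd)
  obtain ⟨a, ha⟩ := exists_prime_orderOf_dvd_card' r hrd
  have har : (a : H) ^ r = 1 := by
    have := pow_orderOf_eq_one a
    rw [ha] at this
    exact congrArg Subtype.val this
  have ha1 : (a : H) ≠ 1 := fun h => by
    have h' : a = 1 := Subtype.ext h
    rw [h', orderOf_one] at ha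
    exact hr.ne_one ha.symm
  -- the `r`-torsion of `M` is all of `M`
  let R : Subgroup H :=
    { carrier := {x | x ∈ M ∧ x ^ r = 1}
      one_mem' := ⟨M.one_mem, one_pow r⟩
      mul_mem' := fun {x y} hx hy => ⟨M.mul_mem hx.1 hy.1, by
        rw [(show Commute x y from hcomm x hx.1 y hy.1).mul_pow, hx.2, hy.2, one_mul]⟩
      inv_mem' := fun {x} hx => ⟨M.inv_mem hx.1, by rw [inv_pow, hx.2, inv_one]⟩ }
  have hRn : R.Normal := ⟨fun x hx g => ⟨‹M.Normal›.conj_mem x hx.1 g, by
    rw [conj_pow, hx.2, mul_one, mul_inv_cancel]⟩⟩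
  have hR : R = M := (hmin R hRn fun x hx => hx.1).resolve_left fun h =>
    ha1 (Subgroup.mem_bot.1 (h ▸ (⟨a.2, har⟩ : (a : H) ∈ R)))
  have hnorm : ∀ c ∈ M, c ≠ 1 → c ^ r = 1 → ∀ v : V, ∏ j ∈ Finset.range r, c ^ j • v = 1 := by
    intro c hc hc1 hcr v
    by_contra h
    apply hc1
    refine hsemi c hc _ h ?_
    rw [Finset.smul_prod']
    simp only [smul_smul, ← pow_succ']
    have e1 := Finset.prod_range_succ (fun j => c ^ j • v) r
    have e2 := Finset.prod_range_succ' (fun j => c ^ j • v) r
    rw [e1, hcr, pow_zero, one_smul] at e2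
    exact (mul_right_cancel e2).symm
  have hcyc : ∀ b ∈ M, b ∈ Subgroup.zpowers (a : H) := by
    intro b hb
    by_contra hba
    have hbr : b ^ r = 1 := by
      have : b ∈ R := hR ▸ hb
      exact this.2
    have hab : Commute (a : H) b := hcomm a a.2 b hb
    obtain ⟨v, hv⟩ := S.nontriv
    have h1 : ∏ j ∈ Finset.range r, ∏ i ∈ Finset.range r, ((a : H) * b ^ j) ^ i • v = 1 := by
      refine Finset.prod_eq_one fun j hj => hnorm _ (M.mul_mem a.2 (M.pow_mem hb j)) (fun h => ?_)
        ?_ v
      · rcases Nat.eq_zero_or_pos j with rfl | hj0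
        · exact ha1 (by simpa using h)
        · apply hba
          have hbj : b ^ j ∈ Subgroup.zpowers (a : H) := by
            rw [eq_inv_of_mul_eq_one_right h]
            exact inv_mem (Subgroup.mem_zpowers _)
          have hco : Nat.Coprime (orderOf b) j := by
            have hb1 : b ≠ 1 := fun h => hba (h ▸ one_mem _)
            rw [orderOf_eq_prime hbr hb1]
            exact (hr.coprime_iff_not_dvd).2 fun hd =>
              absurd (Nat.le_of_dvd hj0 hd) (not_le.2 (Finset.mem_range.1 hj))
          obtain ⟨k, hk⟩ := exists_pow_eq_self_of_coprime (x := b) hco.symm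
          rw [← hk]
          exact pow_mem hbj k
      · rw [((hab.pow_right j)).mul_pow, har, ← pow_mul, mul_comm, pow_mul, hbr, one_pow, one_mul]
    rw [Finset.prod_comm] at h1
    have h2 : ∀ i ∈ Finset.range r, i ≠ 0 →
        ∏ j ∈ Finset.range r, ((a : H) * b ^ j) ^ i • v = 1 := by
      intro i hi hi0
      have hbi : b ^ i ≠ 1 := by
        intro h
        have hb1 : b ≠ 1 := fun h => hba (h ▸ one_mem _)
        have := orderOf_dvd_of_pow_eq_one h
        rw [orderOf_eq_prime hbr hb1] at this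
        exact absurd (Nat.le_of_dvd (Nat.pos_of_ne_zero hi0) this)
          (not_le.2 (Finset.mem_range.1 hi))
      calc ∏ j ∈ Finset.range r, ((a : H) * b ^ j) ^ i • v
          = ∏ j ∈ Finset.range r, (a : H) ^ i • (b ^ i) ^ j • v := by
            refine Finset.prod_congr rfl fun j _ => ?_
            rw [(hab.pow_right j).mul_pow, mul_smul, ← pow_mul, ← pow_mul, mul_comm j i]
        _ = (a : H) ^ i • ∏ j ∈ Finset.range r, (b ^ i) ^ j • v := by rw [Finset.smul_prod']
        _ = 1 := by
            rw [hnorm _ (M.pow_mem hb i) hbi (by rw [← pow_mul, mul_comm, pow_mul, hbr, one_pow]),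
              smul_one]
    rw [Finset.prod_eq_single 0 h2 (fun h => absurd (Finset.mem_range.2 hr.pos) h)] at h1
    simp only [pow_zero, one_smul, Finset.prod_const, Finset.card_range] at h1
    have hodd' : Odd r := hr.odd_of_ne_two hr2
    obtain ⟨k, hk⟩ := hodd'
    rw [hk, pow_succ, pow_mul, pow_two, S.mul_self, one_pow, one_mul] at h1
    exact hv h1
  obtain ⟨v, hv⟩ := S.nontriv
  set C := Subgroup.centralizer (M : Set H) with hC
  have hCn : C.Normal := inferInstance
  have hCs : ∀ y ∈ stabilizer H v, y ∈ C → y = 1 := by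
    intro y hy hyC
    have hn : (C ⊓ stabilizer H v).Normal := by
      rw [← Subgroup.normalizer_eq_top_iff, ← top_le_iff,
        ← S.sup_stab ‹M.Normal› hM hv, sup_le_iff]
      constructor
      · intro x hx
        rw [Subgroup.mem_normalizer_iff]
        intro z
        constructor
        · intro hz
          rwa [Subgroup.mem_centralizer_iff.1 hz.1 x hx, mul_inv_cancel_right]
        · intro hz
          have h1 : x * z * x⁻¹ = z := by
            have := Subgroup.mem_centralizer_iff.1 hz.1 x hx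
            have h2 : z * x⁻¹ = x⁻¹ * (x * z * x⁻¹) := by group
            calc x * z * x⁻¹ = x⁻¹ * (x * (x * z * x⁻¹)) := by group
              _ = x⁻¹ * (x * z * x⁻¹ * x) := by rw [this]
              _ = z := by group
          rwa [h1] at hz
      · intro s hs
        rw [Subgroup.mem_normalizer_iff]
        intro z
        have h1 : z ∈ C ↔ s * z * s⁻¹ ∈ C :=
          ⟨fun h => hCn.conj_mem z h s, fun h => by
            simpa [mul_assoc] using hCn.conj_mem _ h s⁻¹⟩
        have h2 : z ∈ stabilizer H v ↔ s * z * s⁻¹ ∈ stabilizer H v :=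
          Subgroup.mem_normalizer_iff.1 (Subgroup.le_normalizer hs) z
        exact and_congr h1 h2
    by_contra hy1
    refine S.not_le_stab hn (fun h => hy1 (Subgroup.mem_bot.1 (h ▸ ⟨hyC, hy⟩))) hv inf_le_right
  have hpow : ∀ s : H, ∃ k : ℤ, s * a * s⁻¹ = (a : H) ^ k := fun s =>
    (Subgroup.mem_zpowers_iff.1 (hcyc _ (‹M.Normal›.conj_mem _ a.2 s))).imp fun _ h => h.symm
  have hab : ∀ x ∈ stabilizer H v, ∀ y ∈ stabilizer H v, x * y = y * x := by
    intro x hx y hy
    obtain ⟨k, hk⟩ := hpow x
    obtain ⟨l, hl⟩ := hpow y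
    have e1 : x * y * (a : H) * (x * y)⁻¹ = (a : H) ^ (k * l) := by
      rw [show x * y * (a : H) * (x * y)⁻¹ = x * (y * a * y⁻¹) * x⁻¹ by group, hl, ← conj_zpow, hk,
        ← zpow_mul]
    have e2 : y * x * (a : H) * (y * x)⁻¹ = (a : H) ^ (k * l) := by
      rw [show y * x * (a : H) * (y * x)⁻¹ = y * (x * a * x⁻¹) * y⁻¹ by group, hk, ← conj_zpow, hl,
        ← zpow_mul, mul_comm]
    have hmem : (y * x)⁻¹ * (x * y) ∈ C := by
      rw [hC, Subgroup.mem_centralizer_iff]
      intro m hm
      obtain ⟨j, rfl⟩ := Subgroup.mem_zpowers_iff.1 (hcyc m hm)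
      have e3 : Commute (a : H) ((y * x)⁻¹ * (x * y)) := by
        have e : x * y * (a : H) * (x * y)⁻¹ = y * x * (a : H) * (y * x)⁻¹ := e1.trans e2.symm
        show (a : H) * ((y * x)⁻¹ * (x * y)) = (y * x)⁻¹ * (x * y) * a
        calc (a : H) * ((y * x)⁻¹ * (x * y))
            = (y * x)⁻¹ * (y * x * a * (y * x)⁻¹) * (x * y) := by group
          _ = (y * x)⁻¹ * (x * y * a * (x * y)⁻¹) * (x * y) := by rw [e]
          _ = (y * x)⁻¹ * (x * y) * a := by group
      exact (e3.zpow_left j).eq
    have := hCs _ ((stabilizer H v).mul_mem (inv_mem ((stabilizer H v).mul_mem hy hx))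
      ((stabilizer H v).mul_mem hx hy)) hmem
    exact (inv_mul_eq_one.1 this).symm
  apply S.notSolvable
  haveI : Group.IsSolvable M := Group.isSolvable_of_comm fun x y => hc.is_comm.comm x y
  haveI : Group.IsSolvable (stabilizer H v) :=
    Group.isSolvable_of_comm fun x y => Subtype.ext (hab x x.2 y y.2)
  have hsurj : Function.Surjective ((QuotientGroup.mk' M).comp (stabilizer H v).subtype) := by
    rw [← MonoidHom.range_eq_top, MonoidHom.range_comp, Subgroup.range_subtype,
      ← Subgroup.map_top_of_surjective _ (QuotientGroup.mk'_surjective M),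
      ← S.sup_stab ‹M.Normal› hM hv, Subgroup.map_sup]
    rw [QuotientGroup.map_mk'_self, bot_sup_eq]
  haveI := solvable_of_surjective hsurj
  exact solvable_of_ker_le_range M.subtype (QuotientGroup.mk' M) (by simp)

theorem centralizer_eq_bot (S : Setting H V p) {M : Subgroup H} [M.Normal] (hM : M ≠ ⊥)
    (hmin : ∀ K : Subgroup H, K.Normal → K ≤ M → K = ⊥ ∨ K = M) :
    ¬ Group.IsSolvable M ∧ Subgroup.centralizer (M : Set H) = ⊥ := by
  have hns : ¬ Group.IsSolvable M := fun h => S.not_commutative hM hmin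
    (Cfsg.Agent.Hall.minimal_normal_isMulCommutative (hs := h) hmin)
  refine ⟨hns, ?_⟩
  by_contra hC
  obtain ⟨t, htM, ht1, htt⟩ := exists_involution hns
  obtain ⟨v, hv, htv⟩ := S.exists_fixed_top (V := V) htt
  have hn : (M ⊓ stabilizer H v).Normal := by
    rw [← Subgroup.normalizer_eq_top_iff, ← top_le_iff,
      ← S.sup_stab (inferInstance : (Subgroup.centralizer (M : Set H)).Normal) hC hv, sup_le_iff]
    constructor
    · intro x hx
      rw [Subgroup.mem_normalizer_iff]
      intro z
      constructor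
      · intro hz
        rwa [← Subgroup.mem_centralizer_iff.1 hx z hz.1, mul_inv_cancel_right]
      · intro hz
        have h1 : z ∈ M := by
          simpa [mul_assoc] using ‹M.Normal›.conj_mem _ hz.1 x⁻¹
        rwa [← Subgroup.mem_centralizer_iff.1 hx z h1, mul_inv_cancel_right] at hz
    · intro s hs
      rw [Subgroup.mem_normalizer_iff]
      intro y
      have h1 : y ∈ M ↔ s * y * s⁻¹ ∈ M :=
        ⟨fun h => ‹M.Normal›.conj_mem y h s, fun h => by
          simpa [mul_assoc] using ‹M.Normal›.conj_mem _ h s⁻¹⟩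
      have h2 : y ∈ stabilizer H v ↔ s * y * s⁻¹ ∈ stabilizer H v :=
        Subgroup.mem_normalizer_iff.1 (Subgroup.le_normalizer hs) y
      exact and_congr h1 h2
  rcases hmin _ hn inf_le_left with h | h
  · exact ht1 (Subgroup.mem_bot.1 (h ▸ ⟨htM, htv⟩))
  · exact S.not_le_stab ‹M.Normal› hM hv (h ▸ inf_le_right)

end Setting

end Cfsg.Agent.Perm.ExtremelyPrim
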