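import Cfsg.Agent.Lib.Perm.ExtremelyPrim.Basic

/-!
In an extremely primitive linear group the minimal normal subgroup is simple.
-/

set_option autoImplicit false

namespace Cfsg.Agent.Perm.ExtremelyPrim

open MulAction
open scoped Pointwise

section Factors

variable {H : Type*} [Group H]

/-- Conjugate of a subgroup. -/
def cj (g : H) (T : Subgroup H) : Subgroup H := T.map (MulAut.conj g).toMonoidHom

theorem mem_cj {g x : H} {T : Subgroup H} : x ∈ cj g T ↔ g⁻¹ * x * g ∈ T := by
  constructor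
  · rintro ⟨y, hy, rfl⟩
    simpa [mul_assoc] using hy
  · intro h
    exact ⟨_, h, by simp [mul_assoc]⟩

theorem conj_mem_cj {g x : H} {T : Subgroup H} (hx : x ∈ T) : g * x * g⁻¹ ∈ cj g T :=
  ⟨x, hx, rfl⟩

theorem cj_mono {g : H} {A B : Subgroup H} (h : A ≤ B) : cj g A ≤ cj g B := Subgroup.map_mono h

theorem cj_cj (g g' : H) (T : Subgroup H) : cj g' (cj g T) = cj (g' * g) T := by
  ext x
  simp only [mem_cj, mul_inv_rev, mul_assoc]

theorem cj_one (T : Subgroup H) : cj 1 T = T := by ext x; simp [mem_cj]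

theorem mem_normalizer' [Finite H] {K : Subgroup H} {x : H}
    (h : ∀ k ∈ K, x * k * x⁻¹ ∈ K) : x ∈ Subgroup.normalizer (K : Set H) := by
  have h1 : cj x K ≤ K := by
    rintro _ ⟨k, hk, rfl⟩
    exact h k hk
  have h2 : cj x K = K := Subgroup.eq_of_le_of_card_ge h1 (le_of_eq
    (Nat.card_congr (K.equivMapOfInjective _ (MulAut.conj x).injective).toEquiv))
  rw [Subgroup.mem_normalizer_iff]
  intro k
  refine ⟨h k, fun hk => ?_⟩
  have h3 : x * k * x⁻¹ ∈ cj x K := h2.symm ▸ hk
  have := mem_cj.1 h3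
  simpa [mul_assoc] using this

theorem mem_sup_of_normalizes {A B : Subgroup H} (h : A ≤ Subgroup.normalizer (B : Set H)) {x : H}
    (hx : x ∈ A ⊔ B) : ∃ a ∈ A, ∃ b ∈ B, a * b = x := by
  rw [← SetLike.mem_coe, Subgroup.coe_mul_of_left_le_normalizer_right _ _ h] at hx
  exact hx

/-- A factor of `M`: a minimal subgroup normalised by `M`. -/
structure Fac (M T : Subgroup H) : Prop where
  le : T ≤ M
  ne : T ≠ ⊥
  norm : M ≤ Subgroup.normalizer (T : Set H)
  min : ∀ K : Subgroup H, K ≤ T → M ≤ Subgroup.normalizer (K : Set H) → K = ⊥ ∨ K = T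

/-- The complementary part of a factor. -/
def rest (M T : Subgroup H) : Subgroup H := M ⊓ Subgroup.centralizer (T : Set H)

variable {M : Subgroup H}

theorem Fac.conj_mem {T : Subgroup H} (hT : Fac M T) {m x : H} (hm : m ∈ M) (hx : x ∈ T) :
    m * x * m⁻¹ ∈ T := (Subgroup.mem_normalizer_iff.1 (hT.norm hm) x).1 hx

theorem Fac.conj_mem' {T : Subgroup H} (hT : Fac M T) {m x : H} (hm : m ∈ M) (hx : x ∈ T) :
    m⁻¹ * x * m ∈ T := by simpa using hT.conj_mem (inv_mem hm) hx

theorem Fac.cj_fac [Finite H] [M.Normal] {T : Subgroup H} (hT : Fac M T) (g : H) :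
    Fac M (cj g T) := by
  have hsw : ∀ (L : Subgroup H), M ≤ Subgroup.normalizer (L : Set H) → ∀ g : H,
      M ≤ Subgroup.normalizer ((cj g L : Subgroup H) : Set H) := by
    intro L hL g m hm
    refine mem_normalizer' fun x hx => ?_
    rw [mem_cj] at hx ⊢
    have h1 : g⁻¹ * m * g ∈ M := by
      simpa using ‹M.Normal›.conj_mem m hm g⁻¹
    have := (Subgroup.mem_normalizer_iff.1 (hL h1) _).1 hx
    simpa [mul_assoc] using this
  refine ⟨fun x hx => ?_, fun h => hT.ne ?_, hsw T hT.norm g, fun K hKT hK => ?_⟩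
  · have := ‹M.Normal›.conj_mem _ (hT.le (mem_cj.1 hx)) g
    simpa [mul_assoc] using this
  · rw [← cj_one T, ← inv_mul_cancel g, ← cj_cj, h]
    exact Subgroup.map_bot _
  · have h1 : cj g⁻¹ K ≤ T := by
      have := cj_mono (g := g⁻¹) hKT
      rwa [cj_cj, inv_mul_cancel, cj_one] at this
    rcases hT.min _ h1 (hsw K hK g⁻¹) with h | h
    · left
      rw [← cj_one K, ← mul_inv_cancel g, ← cj_cj, h]
      exact Subgroup.map_bot _
    · right
      rw [← cj_one K, ← mul_inv_cancel g, ← cj_cj, h]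

theorem Fac.le_rest {T U : Subgroup H} (hT : Fac M T) (hU : Fac M U) (hne : U ≠ T) :
    U ≤ rest M T := by
  have hbot : U ⊓ T = ⊥ := by
    have hn : M ≤ Subgroup.normalizer ((U ⊓ T : Subgroup H) : Set H) := by
      intro m hm
      rw [Subgroup.mem_normalizer_iff]
      intro x
      exact and_congr (Subgroup.mem_normalizer_iff.1 (hU.norm hm) x)
        (Subgroup.mem_normalizer_iff.1 (hT.norm hm) x)
    refine (hU.min _ inf_le_left hn).resolve_right fun h => ?_
    rcases hT.min U (h ▸ inf_le_right) hU.norm with h' | h'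
    · exact hU.ne h'
    · exact hne h'
  intro u hu
  refine ⟨hU.le hu, Subgroup.mem_centralizer_iff.2 fun t ht => ?_⟩
  have h1 : t * u * t⁻¹ * u⁻¹ ∈ U ⊓ T := by
    refine ⟨U.mul_mem (hU.conj_mem (hT.le ht) hu) (U.inv_mem hu), ?_⟩
    have : t * u * t⁻¹ * u⁻¹ = t * (u * t⁻¹ * u⁻¹) := by group
    rw [this]
    exact T.mul_mem ht (hT.conj_mem (hU.le hu) (T.inv_mem ht))
  rw [hbot, Subgroup.mem_bot, mul_inv_eq_one, mul_inv_eq_iff_eq_mul] at h1
  exact h1

theorem rest_comm {T : Subgroup H} {r x : H} (hr : r ∈ rest M T) (hx : x ∈ T) : x * r = r * x :=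
  Subgroup.mem_centralizer_iff.1 hr.2 x hx

theorem cj_rest [M.Normal] (g : H) (T : Subgroup H) : cj g (rest M T) ≤ rest M (cj g T) := by
  intro x hx
  rw [mem_cj] at hx
  refine ⟨?_, Subgroup.mem_centralizer_iff.2 fun y hy => ?_⟩
  · have := ‹M.Normal›.conj_mem _ hx.1 g
    simpa [mul_assoc] using this
  · rw [SetLike.mem_coe, mem_cj] at hy
    have := rest_comm hx hy
    calc y * x = g * ((g⁻¹ * y * g) * (g⁻¹ * x * g)) * g⁻¹ := by group
      _ = g * ((g⁻¹ * x * g) * (g⁻¹ * y * g)) * g⁻¹ := by rw [this]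
      _ = x * y := by group

theorem exists_fac [Finite H] (hM : M ≠ ⊥) : ∃ T, Fac M T := by
  obtain ⟨T, ⟨hTM, hT, hTn⟩, hmin⟩ := (Set.toFinite
    {K : Subgroup H | K ≤ M ∧ K ≠ ⊥ ∧ M ≤ Subgroup.normalizer (K : Set H)}).exists_minimal
    ⟨M, le_rfl, hM, Subgroup.le_normalizer⟩
  refine ⟨T, hTM, hT, hTn, fun K hKT hK => or_iff_not_imp_left.2 fun hne => ?_⟩
  exact le_antisymm hKT (hmin ⟨hKT.trans hTM, hne, hK⟩ hKT)

variable [Finite H] [M.Normal]

theorem Fac.conjugate {T U : Subgroup H}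
    (hmin : ∀ K : Subgroup H, K.Normal → K ≤ M → K = ⊥ ∨ K = M)
    (hC : Subgroup.centralizer (M : Set H) = ⊥) (hT : Fac M T) (hU : Fac M U) :
    ∃ g : H, cj g T = U := by
  by_contra h
  push Not at h
  let S : Subgroup H := ⨆ g : H, cj g T
  have hSn : S.Normal := by
    rw [← Subgroup.normalizer_eq_top_iff, eq_top_iff]
    intro g _
    refine mem_normalizer' fun x hx => ?_
    have h1 : g * x * g⁻¹ ∈ cj g S := conj_mem_cj hx
    have h2 : cj g S ≤ S := by
      simp only [S, cj, Subgroup.map_iSup]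
      refine iSup_le fun g' => ?_
      exact le_trans (le_of_eq (cj_cj g' g T)) (le_iSup (fun g => cj g T) (g * g'))
    exact h2 h1
  have hSM : S = M := by
    refine (hmin S hSn (iSup_le fun g => (hT.cj_fac g).le)).resolve_left fun h0 => hT.ne ?_
    exact le_bot_iff.1 (le_trans (le_trans (le_of_eq (cj_one T).symm)
      (le_iSup (fun g => cj g T) 1)) (le_of_eq h0))
  have h2 : S ≤ rest M U := iSup_le fun g => hU.le_rest (hT.cj_fac g) (h g)
  apply hU.ne
  rw [← le_bot_iff, ← hC]
  intro u hu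
  refine Subgroup.mem_centralizer_iff.2 fun m hm => ?_
  exact (rest_comm (h2 (hSM.symm ▸ hm)) hu).symm

theorem Fac.sup_rest {T : Subgroup H}
    (hmin : ∀ K : Subgroup H, K.Normal → K ≤ M → K = ⊥ ∨ K = M) (hT : Fac M T) :
    T ⊔ rest M T = M := by
  refine le_antisymm (sup_le hT.le inf_le_left) ?_
  let S : Subgroup H := ⨆ g : H, cj g T
  have hSn : S.Normal := by
    rw [← Subgroup.normalizer_eq_top_iff, eq_top_iff]
    intro g _
    refine mem_normalizer' fun x hx => ?_
    have h1 : g * x * g⁻¹ ∈ cj g S := conj_mem_cj hx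
    have h2 : cj g S ≤ S := by
      simp only [S, cj, Subgroup.map_iSup]
      refine iSup_le fun g' => ?_
      exact le_trans (le_of_eq (cj_cj g' g T)) (le_iSup (fun g => cj g T) (g * g'))
    exact h2 h1
  have hSM : S = M := by
    refine (hmin S hSn (iSup_le fun g => (hT.cj_fac g).le)).resolve_left fun h0 => hT.ne ?_
    exact le_bot_iff.1 (le_trans (le_trans (le_of_eq (cj_one T).symm)
      (le_iSup (fun g => cj g T) 1)) (le_of_eq h0))
  rw [← hSM]
  refine iSup_le fun g => ?_
  by_cases h : cj g T = T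
  · rw [h, hSM]; exact le_sup_left
  · exact le_trans (hT.le_rest (hT.cj_fac g) h) (hSM.symm ▸ le_sup_right)

theorem Fac.inf_rest {T : Subgroup H}
    (hmin : ∀ K : Subgroup H, K.Normal → K ≤ M → K = ⊥ ∨ K = M)
    (hC : Subgroup.centralizer (M : Set H) = ⊥) (hT : Fac M T) :
    T ⊓ rest M T = ⊥ := by
  rw [← le_bot_iff, ← hC]
  intro x hx
  refine Subgroup.mem_centralizer_iff.2 fun m hm => ?_
  have hcomm : rest M T ≤ Subgroup.normalizer (T : Set H) := fun r hr => hT.norm hr.1
  obtain ⟨r, hr, t, ht, rfl⟩ : ∃ r ∈ rest M T, ∃ t ∈ T, r * t = m :=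
    mem_sup_of_normalizes hcomm (by rw [sup_comm, hT.sup_rest hmin]; exact hm)
  have h1 : t * x = x * t := rest_comm hx.2 ht
  have h2 : x * r = r * x := rest_comm hr hx.1
  calc r * t * x = r * (x * t) := by rw [mul_assoc, h1]
    _ = x * (r * t) := by rw [← mul_assoc, ← h2, mul_assoc]

end Factors

namespace Setting

variable {H V : Type*} [Group H] [Finite H] [CommGroup V] [Finite V] [MulDistribMulAction H V]
  {p : ℕ} {M : Subgroup H}

/-- The minimal normal subgroup in play. -/
structure Socle (M : Subgroup H) : Prop where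
  normal : M.Normal
  ne : M ≠ ⊥
  min : ∀ K : Subgroup H, K.Normal → K ≤ M → K = ⊥ ∨ K = M
  cent : Subgroup.centralizer (M : Set H) = ⊥

theorem eq_or_eq_of_invariant (S : Setting H V p) (hM : Socle M) {v : V} (hv : v ≠ 1)
    {P : Subgroup H} (hDP : M ⊓ stabilizer H v ≤ P) (hPM : P ≤ M)
    (hP : stabilizer H v ≤ Subgroup.normalizer (P : Set H)) :
    P = M ⊓ stabilizer H v ∨ P = M := by
  rcases eq_or_lt_of_le (le_sup_left : stabilizer H v ≤ stabilizer H v ⊔ P) with h | h
  · exact Or.inl (le_antisymm (le_inf hPM (h ▸ le_sup_right)) hDP)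
  · refine Or.inr (le_antisymm hPM fun m hm => ?_)
    have h1 : m ∈ stabilizer H v ⊔ P := by
      rw [(S.maxStab v hv).2 _ h]; exact Subgroup.mem_top m
    obtain ⟨s, hs, x, hx, rfl⟩ := mem_sup_of_normalizes hP h1
    have hsM : s ∈ M := by
      have := M.mul_mem hm (M.inv_mem (hPM hx))
      rwa [mul_inv_cancel_right] at this
    exact P.mul_mem (hDP ⟨hsM, hs⟩) hx

theorem fixed_eq_one (S : Setting H V p) (hM : Socle M) {T : Subgroup H} (hT : Fac M T) {v : V}
    (h : ∀ t ∈ T, t • v = v) : v = 1 := by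
  haveI := hM.normal
  by_contra hv
  apply S.not_le_stab hM.normal hM.ne hv
  have hTs : T ≤ stabilizer H v := h
  have key : ∀ g : H, cj g T ≤ stabilizer H v := by
    intro g
    have hg : g ∈ stabilizer H v ⊔ M := by
      rw [sup_comm, S.sup_stab hM.normal hM.ne hv]; exact Subgroup.mem_top g
    obtain ⟨s, hs, m, hm, rfl⟩ := mem_sup_of_normalizes
      (fun s _ => by rw [Subgroup.normalizer_eq_top]; trivial) hg
    intro x hx
    rw [mem_cj] at hx
    have h1 := hT.conj_mem hm hx
    have h2 : m * ((s * m)⁻¹ * x * (s * m)) * m⁻¹ = s⁻¹ * x * s := by group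
    rw [h2] at h1
    have := (stabilizer H v).mul_mem ((stabilizer H v).mul_mem hs (hTs h1)) (inv_mem hs)
    simpa [mul_assoc] using this
  intro m hm
  have h1 : (⨆ g : H, cj g T) ≤ stabilizer H v := iSup_le key
  have h2 : M ≤ ⨆ g : H, cj g T := by
    rw [← hT.sup_rest hM.min]
    refine sup_le (le_trans (le_of_eq (cj_one T).symm) (le_iSup (fun g => cj g T) 1)) ?_
    intro r hr
    have hSn : (⨆ g : H, cj g T).Normal := by
      rw [← Subgroup.normalizer_eq_top_iff, eq_top_iff]
      intro g _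
      refine mem_normalizer' fun x hx => ?_
      have h2 : cj g (⨆ g : H, cj g T) ≤ ⨆ g : H, cj g T := by
        simp only [cj, Subgroup.map_iSup]
        refine iSup_le fun g' => ?_
        exact le_trans (le_of_eq (cj_cj g' g T)) (le_iSup (fun g => cj g T) (g * g'))
      exact h2 (conj_mem_cj hx)
    rcases hM.min _ hSn (iSup_le fun g => (hT.cj_fac g).le) with h0 | h0
    · exact absurd (le_bot_iff.1 (le_trans (le_trans (le_of_eq (cj_one T).symm)
        (le_iSup (fun g => cj g T) 1)) (le_of_eq h0))) hT.ne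
    · rw [h0]; exact hr.1
  exact h1 (h2 hm)

theorem transport (S : Setting H V p) (hM : Socle M) {v : V} (hv : v ≠ 1) {T U : Subgroup H}
    (hT : Fac M T) (hU : Fac M U) : ∃ s ∈ stabilizer H v, cj s T = U := by
  haveI := hM.normal
  obtain ⟨g, hg⟩ := hT.conjugate hM.min hM.cent hU
  have hgm : g ∈ stabilizer H v ⊔ M := by
    rw [sup_comm, S.sup_stab hM.normal hM.ne hv]; exact Subgroup.mem_top g
  obtain ⟨s, hs, m, hm, rfl⟩ := mem_sup_of_normalizes
    (fun s _ => by rw [Subgroup.normalizer_eq_top]; trivial) hgm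
  refine ⟨s, hs, ?_⟩
  have h1 : cj m T = T := by
    ext x
    rw [mem_cj]
    refine ⟨fun h => ?_, fun h => hT.conj_mem' hm h⟩
    have := hT.conj_mem hm h
    simpa [mul_assoc] using this
  rw [← hg, ← cj_cj, h1]

theorem inf_stab_ne_bot (S : Setting H V p) (hM : Socle M) {v : V} (hv : v ≠ 1) {T U : Subgroup H}
    (hT : Fac M T) (hU : Fac M U) (h : T ⊓ stabilizer H v ≠ ⊥) : U ⊓ stabilizer H v ≠ ⊥ := by
  obtain ⟨s, hs, rfl⟩ := S.transport hM hv hT hU
  intro h0
  apply h
  rw [Subgroup.eq_bot_iff_forall]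
  intro x hx
  have h1 : s * x * s⁻¹ ∈ cj s T ⊓ stabilizer H v :=
    ⟨conj_mem_cj hx.1, (stabilizer H v).mul_mem ((stabilizer H v).mul_mem hs hx.2) (inv_mem hs)⟩
  rw [h0, Subgroup.mem_bot] at h1
  simpa using h1

theorem not_factor_le (S : Setting H V p) (hM : Socle M) {v : V} (hv : v ≠ 1) {T : Subgroup H}
    (hT : Fac M T) : ¬ T ≤ stabilizer H v := fun h => hv (S.fixed_eq_one hM hT h)

/-- Product type: a component of an element of the stabiliser lies in the stabiliser. -/
theorem component_mem (S : Setting H V p) (hM : Socle M) {v : V} (hv : v ≠ 1) {T : Subgroup H}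
    (hT : Fac M T) (hne : T ⊓ stabilizer H v ≠ ⊥) {a r : H} (ha : a ∈ T) (hr : r ∈ rest M T)
    (har : a * r ∈ stabilizer H v) : a ∈ stabilizer H v := by
  haveI := hM.normal
  set D := M ⊓ stabilizer H v with hD
  let P : Subgroup H := M ⊓ ⨅ (U : Subgroup H) (_ : Fac M U), (D ⊔ rest M U)
  have hDP : D ≤ P := le_inf inf_le_left (le_iInf fun U => le_iInf fun _ => le_sup_left)
  have hPinv : stabilizer H v ≤ Subgroup.normalizer (P : Set H) := by
    intro s hs
    refine mem_normalizer' fun x hx => ?_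
    obtain ⟨hxM, hxI⟩ := hx
    refine ⟨hM.normal.conj_mem x hxM s, ?_⟩
    replace hxI : ∀ W, Fac M W → x ∈ _ := fun W hW =>
      Subgroup.mem_iInf.1 (Subgroup.mem_iInf.1 hxI W) hW
    refine Subgroup.mem_iInf.2 fun U => Subgroup.mem_iInf.2 fun hU => ?_
    have h1 : x ∈ D ⊔ rest M (cj s⁻¹ U) := hxI _ (hU.cj_fac s⁻¹)
    have h2 : s * x * s⁻¹ ∈ cj s (D ⊔ rest M (cj s⁻¹ U)) := conj_mem_cj h1
    have h3 : cj s (D ⊔ rest M (cj s⁻¹ U)) ≤ D ⊔ rest M U := by
      rw [cj, Subgroup.map_sup]
      refine sup_le (le_trans ?_ le_sup_left) (le_trans ?_ le_sup_right)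
      · rintro _ ⟨y, hy, rfl⟩
        exact ⟨hM.normal.conj_mem y hy.1 s,
          (stabilizer H v).mul_mem ((stabilizer H v).mul_mem hs hy.2) (inv_mem hs)⟩
      · have := cj_rest (M := M) s (cj s⁻¹ U)
        rwa [cj_cj, mul_inv_cancel, cj_one] at this
    exact h3 h2
  rcases S.eq_or_eq_of_invariant hM hv hDP inf_le_left hPinv with h | h
  · have haP : a ∈ P := by
      refine ⟨hT.le ha, ?_⟩
      refine Subgroup.mem_iInf.2 fun U => Subgroup.mem_iInf.2 fun hU => ?_
      by_cases hUT : U = T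
      · subst hUT
        have h1 : a * r ∈ D := ⟨M.mul_mem (hT.le ha) hr.1, har⟩
        have := (D ⊔ rest M U).mul_mem (Subgroup.mem_sup_left h1)
          (Subgroup.mem_sup_right (inv_mem hr) : r⁻¹ ∈ D ⊔ rest M U)
        rwa [mul_inv_cancel_right] at this
      · exact Subgroup.mem_sup_right (hU.le_rest hT (Ne.symm hUT) ha)
    rw [h] at haP
    exact haP.2
  · exfalso
    have hTP : T ≤ D ⊔ rest M T := fun x hx => by
      have hxP : x ∈ P := h.symm ▸ hT.le hx
      have h' := fun W hW => Subgroup.mem_iInf.1 (Subgroup.mem_iInf.1 hxP.2 W) hW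
      exact h' T hT
    have hn : M ≤ Subgroup.normalizer ((T ⊓ stabilizer H v : Subgroup H) : Set H) := by
      rw [← hT.sup_rest hM.min]
      refine sup_le (le_trans hTP (sup_le ?_ ?_)) ?_
      · intro d hd
        refine mem_normalizer' fun x hx => ⟨hT.conj_mem hd.1 hx.1, ?_⟩
        exact (stabilizer H v).mul_mem ((stabilizer H v).mul_mem hd.2 hx.2) (inv_mem hd.2)
      · intro y hy
        refine mem_normalizer' fun x hx => ?_
        rwa [← rest_comm hy hx.1, mul_inv_cancel_right]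
      · intro y hy
        refine mem_normalizer' fun x hx => ?_
        rwa [← rest_comm hy hx.1, mul_inv_cancel_right]
    rcases hT.min _ inf_le_left hn with h' | h'
    · exact hne h'
    · exact S.not_factor_le hM hv hT (h' ▸ inf_le_right)

/-- Product type: the stabiliser part of a factor is self-normalising in it. -/
theorem self_normalizing (S : Setting H V p) (hM : Socle M) {v : V} (hv : v ≠ 1) {T : Subgroup H}
    (hT : Fac M T) (hne : T ⊓ stabilizer H v ≠ ⊥) {a : H} (ha : a ∈ T)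
    (hnorm : a ∈ Subgroup.normalizer ((T ⊓ stabilizer H v : Subgroup H) : Set H)) :
    a ∈ stabilizer H v := by
  haveI := hM.normal
  set D := M ⊓ stabilizer H v with hD
  let N : Subgroup H → Subgroup H := fun U =>
    U ⊓ Subgroup.normalizer ((U ⊓ stabilizer H v : Subgroup H) : Set H)
  let Q : Subgroup H := M ⊓ ⨅ (U : Subgroup H) (_ : Fac M U), (N U ⊔ rest M U)
  have hDQ : D ≤ Q := by
    refine le_inf inf_le_left (le_iInf fun U => le_iInf fun hU => ?_)
    intro d hd
    have h1 : d ∈ U ⊔ rest M U := (hU.sup_rest hM.min).symm ▸ hd.1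
    rw [sup_comm] at h1
    obtain ⟨r, hr, u, hu, hru⟩ := mem_sup_of_normalizes (fun r (hr : r ∈ rest M U) => hU.norm hr.1) h1
    have hur : u * r = d := by rw [← hru]; exact rest_comm hr hu
    refine hur ▸ Subgroup.mul_mem_sup ⟨hu, mem_normalizer' fun x hx => ?_⟩ hr
    refine ⟨U.mul_mem (U.mul_mem hu hx.1) (inv_mem hu), ?_⟩
    have h2 : d * x * d⁻¹ = u * x * u⁻¹ := by
      have := rest_comm hr hx.1
      calc d * x * d⁻¹ = u * (r * x * r⁻¹) * u⁻¹ := by rw [← hur]; group
        _ = u * x * u⁻¹ := by rw [← this, mul_inv_cancel_right]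
    rw [← h2]
    exact (stabilizer H v).mul_mem ((stabilizer H v).mul_mem hd.2 hx.2) (inv_mem hd.2)
  have hQinv : stabilizer H v ≤ Subgroup.normalizer (Q : Set H) := by
    intro s hs
    refine mem_normalizer' fun x hx => ?_
    obtain ⟨hxM, hxI⟩ := hx
    refine ⟨hM.normal.conj_mem x hxM s, ?_⟩
    replace hxI : ∀ W, Fac M W → x ∈ _ := fun W hW =>
      Subgroup.mem_iInf.1 (Subgroup.mem_iInf.1 hxI W) hW
    refine Subgroup.mem_iInf.2 fun U => Subgroup.mem_iInf.2 fun hU => ?_
    have h1 : x ∈ N (cj s⁻¹ U) ⊔ rest M (cj s⁻¹ U) := hxI _ (hU.cj_fac s⁻¹)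
    have h3 : cj s (N (cj s⁻¹ U) ⊔ rest M (cj s⁻¹ U)) ≤ N U ⊔ rest M U := by
      rw [cj, Subgroup.map_sup]
      refine sup_le (le_trans ?_ le_sup_left) (le_trans ?_ le_sup_right)
      · rintro _ ⟨y, ⟨hy1, hy2⟩, rfl⟩
        have hyU : s * y * s⁻¹ ∈ U := by
          have := mem_cj.1 hy1
          simpa [mul_assoc] using this
        refine ⟨hyU, mem_normalizer' fun z hz => ?_⟩
        have hz' : s⁻¹ * z * s ∈ cj s⁻¹ U ⊓ stabilizer H v :=
          ⟨mem_cj.2 (by simpa [mul_assoc] using hz.1),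
            (stabilizer H v).mul_mem ((stabilizer H v).mul_mem (inv_mem hs) hz.2) hs⟩
        obtain ⟨h4, h5⟩ := (Subgroup.mem_normalizer_iff.1 hy2 _).1 hz'
        have h6 : s * (y * (s⁻¹ * z * s) * y⁻¹) * s⁻¹ =
            (MulAut.conj s).toMonoidHom y * z * ((MulAut.conj s).toMonoidHom y)⁻¹ := by
          simp [mul_assoc]
        rw [← h6]
        refine ⟨?_, (stabilizer H v).mul_mem ((stabilizer H v).mul_mem hs h5) (inv_mem hs)⟩
        have := mem_cj.1 h4
        simpa [mul_assoc] using this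
      · have := cj_rest (M := M) s (cj s⁻¹ U)
        rwa [cj_cj, mul_inv_cancel, cj_one] at this
    exact h3 (conj_mem_cj h1)
  rcases S.eq_or_eq_of_invariant hM hv hDQ inf_le_left hQinv with h | h
  · have haQ : a ∈ Q := by
      refine ⟨hT.le ha, ?_⟩
      refine Subgroup.mem_iInf.2 fun U => Subgroup.mem_iInf.2 fun hU => ?_
      by_cases hUT : U = T
      · subst hUT
        exact Subgroup.mem_sup_left ⟨ha, hnorm⟩
      · exact Subgroup.mem_sup_right (hU.le_rest hT (Ne.symm hUT) ha)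
    rw [h] at haQ
    exact haQ.2
  · exfalso
    have hTQ : T ≤ N T ⊔ rest M T := fun x hx => by
      have hxQ : x ∈ Q := h.symm ▸ hT.le hx
      have h' := fun W hW => Subgroup.mem_iInf.1 (Subgroup.mem_iInf.1 hxQ.2 W) hW
      exact h' T hT
    have hrn : rest M T ≤ Subgroup.normalizer ((T ⊓ stabilizer H v : Subgroup H) : Set H) := by
      intro y hy
      refine mem_normalizer' fun x hx => ?_
      rwa [← rest_comm hy hx.1, mul_inv_cancel_right]
    have hn : M ≤ Subgroup.normalizer ((T ⊓ stabilizer H v : Subgroup H) : Set H) := by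
      rw [← hT.sup_rest hM.min]
      exact sup_le (le_trans hTQ (sup_le inf_le_right hrn)) hrn
    rcases hT.min _ inf_le_left hn with h' | h'
    · exact hne h'
    · exact S.not_factor_le hM hv hT (h' ▸ inf_le_right)

/-- Diagonal type: every element of a factor extends to an element of the stabiliser. -/
theorem graph (S : Setting H V p) (hM : Socle M) {v : V} (hv : v ≠ 1) {T : Subgroup H}
    (hT : Fac M T) (hbot : T ⊓ stabilizer H v = ⊥) (hD : M ⊓ stabilizer H v ≠ ⊥) {a : H}
    (ha : a ∈ T) : ∃ r ∈ rest M T, a * r ∈ stabilizer H v := by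
  haveI := hM.normal
  set D := M ⊓ stabilizer H v with hDdef
  let P : Subgroup H := M ⊓ ⨅ (U : Subgroup H) (_ : Fac M U), (D ⊔ rest M U)
  have hDP : D ≤ P := le_inf inf_le_left (le_iInf fun U => le_iInf fun _ => le_sup_left)
  have hPinv : stabilizer H v ≤ Subgroup.normalizer (P : Set H) := by
    intro s hs
    refine mem_normalizer' fun x hx => ?_
    obtain ⟨hxM, hxI⟩ := hx
    refine ⟨hM.normal.conj_mem x hxM s, ?_⟩
    replace hxI : ∀ W, Fac M W → x ∈ _ := fun W hW =>
      Subgroup.mem_iInf.1 (Subgroup.mem_iInf.1 hxI W) hW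
    refine Subgroup.mem_iInf.2 fun U => Subgroup.mem_iInf.2 fun hU => ?_
    have h1 : x ∈ D ⊔ rest M (cj s⁻¹ U) := hxI _ (hU.cj_fac s⁻¹)
    have h3 : cj s (D ⊔ rest M (cj s⁻¹ U)) ≤ D ⊔ rest M U := by
      rw [cj, Subgroup.map_sup]
      refine sup_le (le_trans ?_ le_sup_left) (le_trans ?_ le_sup_right)
      · rintro _ ⟨y, hy, rfl⟩
        exact ⟨hM.normal.conj_mem y hy.1 s,
          (stabilizer H v).mul_mem ((stabilizer H v).mul_mem hs hy.2) (inv_mem hs)⟩
      · have := cj_rest (M := M) s (cj s⁻¹ U)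
        rwa [cj_cj, mul_inv_cancel, cj_one] at this
    exact h3 (conj_mem_cj h1)
  have hnorm : ∀ U, Fac M U → D ≤ Subgroup.normalizer ((rest M U : Subgroup H) : Set H) := by
    intro U hU d hd
    refine mem_normalizer' fun x hx => ?_
    refine ⟨M.mul_mem (M.mul_mem hd.1 hx.1) (inv_mem hd.1),
      Subgroup.mem_centralizer_iff.2 fun y hy => ?_⟩
    have := rest_comm hx (hU.conj_mem' hd.1 hy)
    calc y * (d * x * d⁻¹) = d * ((d⁻¹ * y * d) * x) * d⁻¹ := by group
      _ = d * (x * (d⁻¹ * y * d)) * d⁻¹ := by rw [this]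
      _ = d * x * d⁻¹ * y := by group
  rcases S.eq_or_eq_of_invariant hM hv hDP inf_le_left hPinv with h | h
  · exfalso
    apply hD
    rw [← le_bot_iff, ← hM.cent]
    have key : ∀ U, Fac M U → D ≤ rest M U := by
      intro U hU d hd
      have hUbot : U ⊓ stabilizer H v = ⊥ := by
        by_contra h0
        exact S.inf_stab_ne_bot hM hv hU hT h0 hbot
      have h1 : d ∈ U ⊔ rest M U := (hU.sup_rest hM.min).symm ▸ hd.1
      rw [sup_comm] at h1
      obtain ⟨r, hr, u, hu, hru⟩ := mem_sup_of_normalizes (fun r (hr : r ∈ rest M U) => hU.norm hr.1) h1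
      have huP : u ∈ P := by
        refine ⟨hU.le hu, ?_⟩
        refine Subgroup.mem_iInf.2 fun W => Subgroup.mem_iInf.2 fun hW => ?_
        by_cases hWU : W = U
        · subst hWU
          have hu' : u = r⁻¹ * d := by rw [← hru, inv_mul_cancel_left]
          rw [hu']
          exact (D ⊔ rest M W).mul_mem (Subgroup.mem_sup_right (inv_mem hr))
            (Subgroup.mem_sup_left hd)
        · exact Subgroup.mem_sup_right (hW.le_rest hU (Ne.symm hWU) hu)
      rw [h] at huP
      have : u = 1 := Subgroup.mem_bot.1 (hUbot ▸ ⟨hu, huP.2⟩)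
      rw [this, mul_one] at hru
      exact hru ▸ hr
    intro d hd
    refine Subgroup.mem_centralizer_iff.2 fun m hm => ?_
    have h1 : m ∈ T ⊔ rest M T := (hT.sup_rest hM.min).symm ▸ hm
    have h2 : T ⊔ rest M T ≤ Subgroup.centralizer ({d} : Set H) := by
      refine sup_le (fun x hx => ?_) ?_
      · rw [Subgroup.mem_centralizer_singleton_iff]
        exact rest_comm (key T hT hd) hx
      · obtain ⟨-, hd'⟩ := key T hT hd
        intro x hx
        have hcov : M ≤ ⨆ (U : Subgroup H) (_ : Fac M U), U := by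
          have hn : (⨆ (U : Subgroup H) (_ : Fac M U), U).Normal := by
            rw [← Subgroup.normalizer_eq_top_iff, eq_top_iff]
            intro g _
            refine mem_normalizer' fun y hy => ?_
            have h2 : cj g (⨆ (U : Subgroup H) (_ : Fac M U), U) ≤
                ⨆ (U : Subgroup H) (_ : Fac M U), U := by
              simp only [cj, Subgroup.map_iSup]
              exact iSup₂_le fun U hU => le_iSup₂_of_le (cj g U) (hU.cj_fac g) le_rfl
            exact h2 (conj_mem_cj hy)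
          rcases hM.min _ hn (iSup₂_le fun U hU => hU.le) with h0 | h0
          · exact absurd (le_bot_iff.1 (le_trans (le_iSup₂ (f := fun U _ => U) T hT)
              (le_of_eq h0))) hT.ne
          · exact h0.ge
        have h3 : (⨆ (U : Subgroup H) (_ : Fac M U), U) ≤ Subgroup.centralizer ({d} : Set H) :=
          iSup₂_le fun U hU y hy => by
            rw [Subgroup.mem_centralizer_singleton_iff]
            exact rest_comm (key U hU hd) hy
        exact h3 (hcov hx.1)
    exact Subgroup.mem_centralizer_singleton_iff.1 (h2 h1)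
  · have haP : a ∈ P := h.symm ▸ hT.le ha
    have h' := fun W hW => Subgroup.mem_iInf.1 (Subgroup.mem_iInf.1 haP.2 W) hW
    obtain ⟨d, hd, r, hr, hdr⟩ := mem_sup_of_normalizes (hnorm T hT) (h' T hT)
    refine ⟨r⁻¹, inv_mem hr, ?_⟩
    rw [← hdr, mul_inv_cancel_right]
    exact hd.2

theorem fac_not_solvable (hM : Socle M) {T : Subgroup H} (hT : Fac M T) :
    IsSimpleGroup T ∧ ¬ Group.IsSolvable T := by
  haveI := hM.normal
  have hnc : ¬ ∀ x ∈ T, ∀ y ∈ T, x * y = y * x := by
    intro hc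
    have h := hT.inf_rest hM.min hM.cent
    exact hT.ne (le_bot_iff.1 (h ▸ le_inf le_rfl fun x hx =>
      ⟨hT.le hx, Subgroup.mem_centralizer_iff.2 fun y hy => hc y hy x hx⟩))
  haveI : Nontrivial T := (Subgroup.nontrivial_iff_ne_bot T).2 hT.ne
  have hs : IsSimpleGroup T := by
    refine { eq_bot_or_eq_top_of_normal := fun K hK => ?_ }
    have hn : M ≤ Subgroup.normalizer ((K.map T.subtype : Subgroup H) : Set H) := by
      rw [← hT.sup_rest hM.min]
      refine sup_le (fun x hx => ?_) (fun x hx => ?_)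
      · refine mem_normalizer' ?_
        rintro _ ⟨k, hk, rfl⟩
        exact ⟨⟨x, hx⟩ * k * ⟨x, hx⟩⁻¹, hK.conj_mem k hk _, rfl⟩
      · refine mem_normalizer' ?_
        rintro _ ⟨k, hk, rfl⟩
        exact ⟨k, hk, by simp only [Subgroup.coe_subtype]
                         rw [← rest_comm hx k.2, mul_inv_cancel_right]⟩
    rcases hT.min _ (Subgroup.map_subtype_le K) hn with h | h
    · exact Or.inl ((Subgroup.map_eq_bot_iff_of_injective K T.subtype_injective).1 h)
    · refine Or.inr (Subgroup.map_injective T.subtype_injective ?_)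
      rw [h, ← MonoidHom.range_eq_map, Subgroup.range_subtype]
  refine ⟨hs, fun hsol => hnc fun x hx y hy => ?_⟩
  haveI := hsol
  exact congrArg Subtype.val
    (IsSimpleGroup.comm_iff_isSolvable.2 hsol (⟨x, hx⟩ : T) ⟨y, hy⟩)

theorem fixed_of_involutions (S : Setting H V p) (hM : Socle M) {T : Subgroup H} (hT : Fac M T)
    {w : V} (h : ∀ t ∈ T, t * t = 1 → t • w = w) : w = 1 := by
  haveI := hM.normal
  let K : Subgroup H := Subgroup.closure {t | t ∈ T ∧ t * t = 1}
  have hKT : K ≤ T := (Subgroup.closure_le T).2 fun x hx => hx.1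
  have hKn : M ≤ Subgroup.normalizer (K : Set H) := by
    intro m hm
    refine mem_normalizer' fun k hk => ?_
    have h1 : cj m K ≤ K := by
      simp only [K, cj, MonoidHom.map_closure]
      refine Subgroup.closure_mono ?_
      rintro _ ⟨t, ⟨ht, htt⟩, rfl⟩
      refine ⟨hT.conj_mem hm ht, ?_⟩
      rw [← map_mul, htt, map_one]
    exact h1 (conj_mem_cj hk)
  obtain ⟨t, ht, ht1, htt⟩ := exists_involution (fac_not_solvable hM hT).2
  have hK : K = T := (hT.min K hKT hKn).resolve_left fun h0 => ht1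
    (Subgroup.mem_bot.1 (h0 ▸ Subgroup.subset_closure (show t ∈ {t | t ∈ T ∧ t * t = 1} from
      ⟨ht, htt⟩)))
  refine S.fixed_eq_one hM hT fun x hx => ?_
  have h2 : K ≤ stabilizer H w := (Subgroup.closure_le _).2 fun x hx => h x hx.1 hx.2
  exact h2 (hK.symm ▸ hx)

/-- The vector used to exclude decomposable socles. -/
theorem exists_pair (S : Setting H V p) (hM : Socle M) {T U : Subgroup H} (hT : Fac M T)
    (hU : Fac M U) (hne : U ≠ T) {W : Subgroup V} (hW : ∃ w ∈ W, w ≠ 1)
    (hTW : ∀ t ∈ T, ∀ w ∈ W, t • w ∈ W) (hUW : ∀ t ∈ U, ∀ w ∈ W, t • w ∈ W) :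
    ∃ t ∈ T, ∃ t' ∈ U, ∃ u ∈ W, u ≠ 1 ∧ (t * t') • u = u ∧ t • u ≠ u := by
  obtain ⟨w₀, hw₀, hw₀1⟩ := hW
  by_contra hcon
  push Not at hcon
  apply hw₀1
  refine S.fixed_of_involutions hM hT fun t ht htt => ?_
  have h1 : w₀ * t • w₀ = 1 := by
    refine S.fixed_of_involutions hM hU fun t' ht' htt' => ?_
    have hc : t' * t = t * t' := (rest_comm (hT.le_rest hU hne ht') ht).symm
    set u := w₀ * (t * t') • w₀ with hu
    have huW : u ∈ W := W.mul_mem hw₀ (by
      rw [mul_smul]; exact hTW t ht _ (hUW t' ht' _ hw₀))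
    have hfix : (t * t') • u = u := by
      have h2 : t * t' * (t * t') = 1 := by
        rw [mul_assoc, ← mul_assoc t' t t', hc, mul_assoc t t', htt', mul_one, htt]
      rw [hu, smul_mul', smul_smul, h2, one_smul, mul_comm]
    have htu : t • u = u := by
      by_cases h0 : u = 1
      · rw [h0, smul_one]
      · exact hcon t ht t' ht' u huW h0 hfix
    have e1 : t • u = t • w₀ * t' • w₀ := by
      rw [hu, smul_mul', smul_smul, ← mul_assoc t t t', htt, one_mul]
    rw [e1, hu] at htu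
    have e2 : (t * t') • w₀ = t' • t • w₀ := by rw [smul_smul, hc]
    rw [e2] at htu
    rw [smul_mul']
    -- `a * b = c * d` in an elementary abelian two-group
    calc t' • w₀ * t' • t • w₀
        = (w₀ * w₀) * (t' • w₀ * t' • t • w₀) := by rw [S.mul_self, one_mul]
      _ = w₀ * (w₀ * t' • t • w₀) * t' • w₀ := by
          simp only [mul_comm, mul_left_comm, mul_assoc]
      _ = w₀ * (t • w₀ * t' • w₀) * t' • w₀ := by rw [← htu]
      _ = w₀ * t • w₀ * (t' • w₀ * t' • w₀) := by
          simp only [mul_comm, mul_left_comm, mul_assoc]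
      _ = w₀ * t • w₀ := by rw [S.mul_self, mul_one]
  rw [← inv_eq_of_mul_eq_one_right h1, S.inv_self]

theorem three_factors (S : Setting H V p) (hM : Socle M) {T U R : Subgroup H} (hT : Fac M T)
    (hU : Fac M U) (hR : Fac M R) (hUT : U ≠ T) (hRT : R ≠ T) (hRU : R ≠ U) : False := by
  haveI := hM.normal
  obtain ⟨s, hs, hs1, hss⟩ := exists_involution (fac_not_solvable hM hR).2
  let W : Subgroup V := fixSub (Subgroup.zpowers s)
  have hmemW : ∀ w : V, s • w = w → w ∈ W := fun w hw x hx => by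
    have : Subgroup.zpowers s ≤ stabilizer H w := Subgroup.zpowers_le.2 hw
    exact this hx
  obtain ⟨w, hw, hsw⟩ := S.exists_fixed_top (V := V) hss
  have hinv : ∀ X : Subgroup H, Fac M X → R ≠ X → ∀ t ∈ X, ∀ w ∈ W, t • w ∈ W := by
    intro X hX hne t ht w hw
    refine hmemW _ ?_
    have hc : t * s = s * t := rest_comm (hX.le_rest hR hne hs) ht
    rw [smul_smul, ← hc, mul_smul, hw s (Subgroup.mem_zpowers s)]
  obtain ⟨t, ht, t', ht', u, huW, hu1, hfix, hne⟩ := S.exists_pair hM hT hU hUT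
    ⟨w, hmemW w hsw, hw⟩ (hinv T hT hRT) (hinv U hU hRU)
  apply hne
  have hRs : R ⊓ stabilizer H u ≠ ⊥ := fun h => hs1
    (Subgroup.mem_bot.1 (h ▸ ⟨hs, huW s (Subgroup.mem_zpowers s)⟩))
  exact S.component_mem hM hu1 hT (S.inf_stab_ne_bot hM hu1 hR hT hRs) ht
    (hT.le_rest hU hUT ht') hfix

theorem two_factors (S : Setting H V p) (hM : Socle M) {T U : Subgroup H} (hT : Fac M T)
    (hU : Fac M U) (hUT : U ≠ T) (hall : ∀ R, Fac M R → R = T ∨ R = U) : False := by
  haveI := hM.normal
  -- the complement of each factor is the other one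
  have hrestT : rest M T ≤ U := by
    intro r hr
    have hcov : M ≤ U ⊔ T := by
      have hn : (U ⊔ T).Normal := by
        rw [← Subgroup.normalizer_eq_top_iff, eq_top_iff]
        intro g _
        refine mem_normalizer' fun y hy => ?_
        have h2 : cj g (U ⊔ T) ≤ U ⊔ T := by
          rw [cj, Subgroup.map_sup]
          refine sup_le ?_ ?_
          · rcases hall _ (hU.cj_fac g) with h | h
            · exact h.le.trans le_sup_right
            · exact h.le.trans le_sup_left
          · rcases hall _ (hT.cj_fac g) with h | h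
            · exact h.le.trans le_sup_right
            · exact h.le.trans le_sup_left
        exact h2 (conj_mem_cj hy)
      rcases hM.min _ hn (sup_le hU.le hT.le) with h0 | h0
      · exact absurd (le_bot_iff.1 (h0 ▸ (le_sup_right : T ≤ U ⊔ T))) hT.ne
      · exact h0.ge
    obtain ⟨y, hy, x, hx, rfl⟩ := mem_sup_of_normalizes (fun y hy => hT.norm (hU.le hy))
      (hcov hr.1)
    have hyr : y ∈ rest M T := hT.le_rest hU hUT hy
    have hxr : x ∈ T ⊓ rest M T :=
      ⟨hx, by simpa using (rest M T).mul_mem (inv_mem hyr) hr⟩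
    rw [hT.inf_rest hM.min hM.cent, Subgroup.mem_bot] at hxr
    rwa [hxr, mul_one]
  have hrestU : rest M U ≤ T := by
    intro r hr
    have hcov : M ≤ T ⊔ U := by
      rw [← hT.sup_rest hM.min]
      exact sup_le_sup_left hrestT T
    obtain ⟨y, hy, x, hx, rfl⟩ := mem_sup_of_normalizes (fun y hy => hU.norm (hT.le hy))
      (hcov hr.1)
    have hyr : y ∈ rest M U := hU.le_rest hT (Ne.symm hUT) hy
    have hxr : x ∈ U ⊓ rest M U :=
      ⟨hx, by simpa using (rest M U).mul_mem (inv_mem hyr) hr⟩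
    rw [hU.inf_rest hM.min hM.cent, Subgroup.mem_bot] at hxr
    rwa [hxr, mul_one]
  -- a minimal invariant subgroup
  obtain ⟨v₀, hv₀⟩ := S.nontriv
  obtain ⟨W, ⟨⟨w₀, hw₀, hw₀1⟩, hWinv⟩, hWmin⟩ := (Set.toFinite
    {W : Subgroup V | (∃ w ∈ W, w ≠ 1) ∧ ∀ m ∈ M, ∀ w ∈ W, m • w ∈ W}).exists_minimal
    ⟨⊤, ⟨v₀, Subgroup.mem_top _, hv₀⟩, fun _ _ _ _ => Subgroup.mem_top _⟩
  obtain ⟨t, ht, t', ht', u, huW, hu1, hfix, hne⟩ := S.exists_pair hM hT hU hUT
    ⟨w₀, hw₀, hw₀1⟩ (fun x hx => hWinv x (hT.le hx)) (fun x hx => hWinv x (hU.le hx))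
  have hTu : T ⊓ stabilizer H u = ⊥ := by
    by_contra h
    exact hne (S.component_mem hM hu1 hT h ht (hT.le_rest hU hUT ht') hfix)
  have hDu : M ⊓ stabilizer H u ≠ ⊥ := by
    intro h
    have h1 : t * t' = 1 := Subgroup.mem_bot.1 (h ▸ ⟨M.mul_mem (hT.le ht) (hU.le ht'), hfix⟩)
    have h2 : t ∈ T ⊓ rest M T := ⟨ht, by
      rw [eq_inv_of_mul_eq_one_left h1]; exact (rest M T).inv_mem (hT.le_rest hU hUT ht')⟩
    rw [hT.inf_rest hM.min hM.cent, Subgroup.mem_bot] at h2
    rw [h2, one_smul] at hne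
    exact hne rfl
  have key : ∀ g ∈ T, ∀ x ∈ W, x ≠ 1 → g • x = x → g * g = 1 := by
    intro g hg x hx hx1 hgx
    by_contra hgg
    obtain ⟨b, hb, hgb⟩ := S.graph hM hu1 hT hTu hDu hg
    have hgb' : (g * b) • u = u := hgb
    set w := u * g • u with hwdef
    have hw1 : w ≠ 1 := by
      intro h
      have h1 : g • u = u := by rw [← inv_eq_of_mul_eq_one_right h, S.inv_self]
      have h2 : g = 1 := Subgroup.mem_bot.1 (hTu ▸ ⟨hg, h1⟩)
      rw [h2, one_mul] at hgg
      exact hgg rfl
    have hgbw : (g * b) • w = w := by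
      have hc : g * b * g = g * (g * b) := by
        rw [mul_assoc g b g, rest_comm hb hg]
      rw [hwdef, smul_mul', hgb', smul_smul, hc, mul_smul, hgb']
    have hTw : T ⊓ stabilizer H w = ⊥ := by
      by_contra h
      have h1 : g • w = w := S.component_mem hM hw1 hT h hg hb hgbw
      rw [hwdef, smul_mul', smul_smul, mul_comm u (g • u)] at h1
      have h2 : (g * g) • u = u := mul_left_cancel h1
      exact hgg (Subgroup.mem_bot.1 (hTu ▸ ⟨T.mul_mem hg hg, h2⟩))
    have hDw : M ⊓ stabilizer H w ≠ ⊥ := by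
      intro h
      have h1 : g * b = 1 := Subgroup.mem_bot.1 (h ▸ ⟨M.mul_mem (hT.le hg) hb.1, hgbw⟩)
      have h2 : g ∈ T ⊓ rest M T := ⟨hg, by
        rw [eq_inv_of_mul_eq_one_left h1]; exact (rest M T).inv_mem hb⟩
      rw [hT.inf_rest hM.min hM.cent, Subgroup.mem_bot] at h2
      rw [h2, one_mul] at hgg
      exact hgg rfl
    -- the span of the `U`-orbit of `w`
    let K : Subgroup V := Subgroup.closure {y | ∃ c ∈ U, c • w = y}
    have hwW : w ∈ W := W.mul_mem huW (hWinv g (hT.le hg) u huW)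
    have hKW : K ≤ W := (Subgroup.closure_le W).2 fun y ⟨c, hc, h⟩ => h ▸ hWinv c (hU.le hc) w hwW
    have hKinv : ∀ m ∈ M, ∀ y ∈ K, m • y ∈ K := by
      intro m hm y hy
      induction hy using Subgroup.closure_induction with
      | mem y hy =>
        obtain ⟨c, hc, rfl⟩ := hy
        have hm' : m ∈ U ⊔ rest M U := (hU.sup_rest hM.min).symm ▸ hm
        rw [sup_comm] at hm'
        obtain ⟨a, ha, d, hd, rfl⟩ := mem_sup_of_normalizes (fun r (hr : r ∈ rest M U) => hU.norm hr.1) hm'
        obtain ⟨r, hr, har⟩ := S.graph hM hw1 hT hTw hDw (hrestU ha)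
        have h1 : a • w = r⁻¹ • w := by
          rw [eq_inv_smul_iff, smul_smul, ← rest_comm hr (hrestU ha)]
          exact har
        refine Subgroup.subset_closure ⟨d * c * r⁻¹,
          U.mul_mem (U.mul_mem hd hc) (inv_mem (hrestT hr)), ?_⟩
        have h2 : a * d * c = d * c * a := by
          rw [mul_assoc]
          exact (rest_comm ha (U.mul_mem hd hc)).symm
        rw [mul_smul, ← h1, smul_smul, smul_smul, ← h2]
      | one => rw [smul_one]; exact K.one_mem
      | mul a b _ _ ha hb => rw [smul_mul']; exact K.mul_mem ha hb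
      | inv a _ ha => rw [smul_inv']; exact K.inv_mem ha
    have hKeq : K = W := by
      refine le_antisymm hKW (hWmin ⟨⟨w, ?_, hw1⟩, hKinv⟩ hKW)
      exact Subgroup.subset_closure ⟨1, U.one_mem, one_smul H w⟩
    -- the endomorphism `y ↦ y * g • y` of `W` is onto
    let β : W →* W :=
      { toFun := fun y => ⟨(y : V) * g • (y : V), W.mul_mem y.2 (hWinv g (hT.le hg) _ y.2)⟩
        map_one' := Subtype.ext (by simp)
        map_mul' := fun a b => Subtype.ext (by
          simp only [Subgroup.coe_mul, smul_mul']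
          exact mul_mul_mul_comm _ _ _ _) }
    have hsurj : Function.Surjective β := by
      intro y
      have hy : (y : V) ∈ β.range.map W.subtype := by
        have h1 : K ≤ β.range.map W.subtype := by
          refine (Subgroup.closure_le _).2 ?_
          rintro _ ⟨c, hc, rfl⟩
          refine ⟨β ⟨c • u, hWinv c (hU.le hc) u huW⟩, ⟨_, rfl⟩, ?_⟩
          show c • u * g • c • u = c • (u * g • u)
          rw [smul_mul', smul_smul, smul_smul, rest_comm (hT.le_rest hU hUT hc) hg]
        exact h1 (hKeq.symm ▸ y.2)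
      obtain ⟨z, ⟨x, rfl⟩, hz⟩ := hy
      exact ⟨x, Subtype.ext hz⟩
    have hinj := Finite.injective_iff_surjective.2 hsurj
    have h0 : β ⟨x, hx⟩ = 1 := Subtype.ext (by
      show x * g • x = 1
      rw [hgx, S.mul_self])
    have := hinj (h0.trans (map_one β).symm)
    exact hx1 (congrArg Subtype.val this)
  -- the stabiliser of a vector fixed by an involution of `T`
  obtain ⟨hsimple, hns⟩ := fac_not_solvable hM hT
  obtain ⟨s, hs, hs1, hss⟩ := exists_involution hns
  obtain ⟨x, hxW, hx1, hsx⟩ := S.exists_fixed hss (fun w hw => hWinv s (hT.le hs) w hw)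
    ⟨w₀, hw₀, hw₀1⟩
  have hE : ∀ e ∈ T, e • x = x → e * e = 1 := fun e he h => key e he x hxW hx1 h
  have hEne : T ⊓ stabilizer H x ≠ ⊥ := fun h =>
    hs1 (Subgroup.mem_bot.1 (h ▸ ⟨hs, hsx⟩))
  haveI : Fact (Nat.Prime 2) := ⟨Nat.prime_two⟩
  let E : Subgroup T := (stabilizer H x).subgroupOf T
  have hE2 : IsPGroup 2 E := fun e => ⟨1, Subtype.ext (Subtype.ext (by
    simpa [pow_two] using hE _ (e : T).2 e.2))⟩
  have hselfn : ∀ a : T, a ∈ Subgroup.normalizer (E : Set T) → a ∈ E := by
    intro a ha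
    refine S.self_normalizing hM hx1 hT hEne a.2 (mem_normalizer' fun y hy => ?_)
    exact ⟨T.mul_mem (T.mul_mem a.2 hy.1) (inv_mem a.2),
      (Subgroup.mem_normalizer_iff.1 ha (⟨y, hy.1⟩ : T)).1 hy.2⟩
  obtain ⟨P, hEP⟩ := hE2.exists_le_sylow
  have hPE : (P : Subgroup T) = E := by
    by_contra hne
    have hlt : E.subgroupOf (P : Subgroup T) < ⊤ :=
      lt_top_iff_ne_top.2 fun h => hne (le_antisymm (Subgroup.subgroupOf_eq_top.1 h) hEP)
    haveI := P.2.isNilpotent
    have hlt2 := normalizerCondition_of_isNilpotent (G := (P : Subgroup T)) _ hlt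
    obtain ⟨y, hy, hyE⟩ := SetLike.exists_of_lt hlt2
    apply hyE
    show (y : T) ∈ E
    refine hselfn _ (mem_normalizer' fun k hk => ?_)
    exact (Subgroup.mem_normalizer_iff.1 hy (⟨k, hEP hk⟩ : (P : Subgroup T))).1 hk
  have hcomm : ∀ a ∈ E, ∀ b ∈ E, a * b = b * a := by
    intro a ha b hb
    have sq : ∀ y ∈ E, y * y = 1 := fun y hy => Subtype.ext (hE _ y.2 hy)
    have h1 := sq _ (E.mul_mem ha hb)
    have hinv : (a * b)⁻¹ = a * b := inv_eq_of_mul_eq_one_right h1
    rw [mul_inv_rev, inv_eq_of_mul_eq_one_right (sq a ha),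
      inv_eq_of_mul_eq_one_right (sq b hb)] at hinv
    exact hinv.symm
  have hP : Subgroup.normalizer ((P : Subgroup T) : Set T) ≤
      Subgroup.centralizer ((P : Subgroup T) : Set T) := by
    intro a ha
    rw [hPE] at ha ⊢
    exact Subgroup.mem_centralizer_iff.2 fun b hb => hcomm b hb a (hselfn a ha)
  haveI := hsimple
  have hcomp := MonoidHom.ker_transferSylow_isComplement' P hP
  rcases (MonoidHom.normal_ker (MonoidHom.transferSylow P hP)).eq_bot_or_eq_top with h | h
  · rw [h] at hcomp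
    have hPtop : (P : Subgroup T) = ⊤ := by
      have := hcomp.sup_eq_top
      rwa [bot_sup_eq] at this
    exact hns (Group.isSolvable_of_comm fun a b => hcomm a
      (hPE ▸ hPtop ▸ Subgroup.mem_top a) b (hPE ▸ hPtop ▸ Subgroup.mem_top b))
  · rw [h] at hcomp
    have hbot : (P : Subgroup T) = ⊥ := by
      have := hcomp.disjoint.eq_bot
      rwa [top_inf_eq] at this
    have hsE : (⟨s, hs⟩ : T) ∈ E := hsx
    rw [← hPE, hbot, Subgroup.mem_bot] at hsE
    exact hs1 (congrArg Subtype.val hsE)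

/-- Extremely primitive linear groups: characteristic two and almost simple. -/
theorem almost_simple (S : Setting H V p) :
    ∃ T : Subgroup H, T.Normal ∧ IsSimpleGroup T ∧ ¬ IsMulCommutative T ∧
      Subgroup.centralizer (T : Set H) = ⊥ := by
  haveI : Nontrivial H := by
    by_contra h
    rw [not_nontrivial_iff_subsingleton] at h
    exact S.notSolvable inferInstance
  obtain ⟨M, hMn, -, hM, hmin⟩ :=
    Cfsg.Agent.Hall.exists_minimal_normal (⊤ : Subgroup H) top_ne_bot
  haveI := hMn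
  obtain ⟨hns, hC⟩ := S.centralizer_eq_bot hM hmin
  have hsoc : Socle M := ⟨hMn, hM, hmin, hC⟩
  obtain ⟨T, hT⟩ := exists_fac hM
  have hTM : T = M := by
    by_contra hne
    obtain ⟨U, hU, hUT⟩ : ∃ U, Fac M U ∧ U ≠ T := by
      by_contra h
      push Not at h
      apply hne
      refine (hmin T ?_ hT.le).resolve_left hT.ne
      rw [← Subgroup.normalizer_eq_top_iff, eq_top_iff]
      intro g _
      refine mem_normalizer' fun y hy => ?_
      have := conj_mem_cj (g := g) hy
      rwa [h _ (hT.cj_fac g)] at this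
    by_cases hall : ∀ R, Fac M R → R = T ∨ R = U
    · exact S.two_factors hsoc hT hU hUT hall
    · push Not at hall
      obtain ⟨R, hR, hRT, hRU⟩ := hall
      exact S.three_factors hsoc hT hU hR hUT hRT hRU
  obtain ⟨hs, hTns⟩ := fac_not_solvable hsoc hT
  subst hTM
  exact ⟨T, hMn, hs, fun hc => hTns (Group.isSolvable_of_comm fun a b => hc.is_comm.comm a b), hC⟩

end Setting

end Cfsg.Agent.Perm.ExtremelyPrim
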